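import Cfsg.Agent.Lib.Helper35.Fi22b.Data

set_option Elab.async false

namespace Cfsg.Agent.Lib.Helper35.Fi22b

open Cfsg.Agent.Lib.Helper35

theorem s0c0 : allBelow (fun k => fs0 (Nat.add (Nat.succ 0) k)) 4472 = true := by decide +kernel
theorem s0u0 : ∀ v, 1 ≤ v → v ≤ 4472 → fs0 v = true := slots_step fs0 0 4472 4472 (slots_zero fs0) s0c0 rfl
theorem s0c1 : allBelow (fun k => fs0 (Nat.add (Nat.succ 4472) k)) 4070 = true := by decide +kernel
theorem s0u1 : ∀ v, 1 ≤ v → v ≤ 8542 → fs0 v = true := slots_step fs0 4472 4070 8542 s0u0 s0c1 rfl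
theorem s0c2 : allBelow (fun k => fs0 (Nat.add (Nat.succ 8542) k)) 3526 = true := by decide +kernel
theorem s0u2 : ∀ v, 1 ≤ v → v ≤ 12068 → fs0 v = true := slots_step fs0 8542 3526 12068 s0u1 s0c2 rfl
theorem s0c3 : allBelow (fun k => fs0 (Nat.add (Nat.succ 12068) k)) 3607 = true := by decide +kernel
theorem s0u3 : ∀ v, 1 ≤ v → v ≤ 15675 → fs0 v = true := slots_step fs0 12068 3607 15675 s0u2 s0c3 rfl
theorem s0c4 : allBelow (fun k => fs0 (Nat.add (Nat.succ 15675) k)) 954 = true := by decide +kernel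
theorem s0u4 : ∀ v, 1 ≤ v → v ≤ 16629 → fs0 v = true := slots_step fs0 15675 954 16629 s0u3 s0c4 rfl
theorem s1c0 : allBelow (fun k => fs1 (Nat.add (Nat.succ 0) k)) 4385 = true := by decide +kernel
theorem s1u0 : ∀ v, 1 ≤ v → v ≤ 4385 → fs1 v = true := slots_step fs1 0 4385 4385 (slots_zero fs1) s1c0 rfl
theorem s1c1 : allBelow (fun k => fs1 (Nat.add (Nat.succ 4385) k)) 4051 = true := by decide +kernel
theorem s1u1 : ∀ v, 1 ≤ v → v ≤ 8436 → fs1 v = true := slots_step fs1 4385 4051 8436 s1u0 s1c1 rfl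
theorem s1c2 : allBelow (fun k => fs1 (Nat.add (Nat.succ 8436) k)) 3512 = true := by decide +kernel
theorem s1u2 : ∀ v, 1 ≤ v → v ≤ 11948 → fs1 v = true := slots_step fs1 8436 3512 11948 s1u1 s1c2 rfl
theorem s1c3 : allBelow (fun k => fs1 (Nat.add (Nat.succ 11948) k)) 3572 = true := by decide +kernel
theorem s1u3 : ∀ v, 1 ≤ v → v ≤ 15520 → fs1 v = true := slots_step fs1 11948 3572 15520 s1u2 s1c3 rfl
theorem s1c4 : allBelow (fun k => fs1 (Nat.add (Nat.succ 15520) k)) 1109 = true := by decide +kernel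
theorem s1u4 : ∀ v, 1 ≤ v → v ≤ 16629 → fs1 v = true := slots_step fs1 15520 1109 16629 s1u3 s1c4 rfl
theorem s2c0 : allBelow (fun k => fs2 (Nat.add (Nat.succ 0) k)) 4290 = true := by decide +kernel
theorem s2u0 : ∀ v, 1 ≤ v → v ≤ 4290 → fs2 v = true := slots_step fs2 0 4290 4290 (slots_zero fs2) s2c0 rfl
theorem s2c1 : allBelow (fun k => fs2 (Nat.add (Nat.succ 4290) k)) 4065 = true := by decide +kernel
theorem s2u1 : ∀ v, 1 ≤ v → v ≤ 8355 → fs2 v = true := slots_step fs2 4290 4065 8355 s2u0 s2c1 rfl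
theorem s2c2 : allBelow (fun k => fs2 (Nat.add (Nat.succ 8355) k)) 3549 = true := by decide +kernel
theorem s2u2 : ∀ v, 1 ≤ v → v ≤ 11904 → fs2 v = true := slots_step fs2 8355 3549 11904 s2u1 s2c2 rfl
theorem s2c3 : allBelow (fun k => fs2 (Nat.add (Nat.succ 11904) k)) 3618 = true := by decide +kernel
theorem s2u3 : ∀ v, 1 ≤ v → v ≤ 15522 → fs2 v = true := slots_step fs2 11904 3618 15522 s2u2 s2c3 rfl
theorem s2c4 : allBelow (fun k => fs2 (Nat.add (Nat.succ 15522) k)) 1107 = true := by decide +kernel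
theorem s2u4 : ∀ v, 1 ≤ v → v ≤ 16629 → fs2 v = true := slots_step fs2 15522 1107 16629 s2u3 s2c4 rfl
theorem s3c0 : allBelow (fun k => fs3 (Nat.add (Nat.succ 0) k)) 4121 = true := by decide +kernel
theorem s3u0 : ∀ v, 1 ≤ v → v ≤ 4121 → fs3 v = true := slots_step fs3 0 4121 4121 (slots_zero fs3) s3c0 rfl
theorem s3c1 : allBelow (fun k => fs3 (Nat.add (Nat.succ 4121) k)) 4027 = true := by decide +kernel
theorem s3u1 : ∀ v, 1 ≤ v → v ≤ 8148 → fs3 v = true := slots_step fs3 4121 4027 8148 s3u0 s3c1 rfl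
theorem s3c2 : allBelow (fun k => fs3 (Nat.add (Nat.succ 8148) k)) 3627 = true := by decide +kernel
theorem s3u2 : ∀ v, 1 ≤ v → v ≤ 11775 → fs3 v = true := slots_step fs3 8148 3627 11775 s3u1 s3c2 rfl
theorem s3c3 : allBelow (fun k => fs3 (Nat.add (Nat.succ 11775) k)) 3615 = true := by decide +kernel
theorem s3u3 : ∀ v, 1 ≤ v → v ≤ 15390 → fs3 v = true := slots_step fs3 11775 3615 15390 s3u2 s3c3 rfl
theorem s3c4 : allBelow (fun k => fs3 (Nat.add (Nat.succ 15390) k)) 1239 = true := by decide +kernel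
theorem s3u4 : ∀ v, 1 ≤ v → v ≤ 16629 → fs3 v = true := slots_step fs3 15390 1239 16629 s3u3 s3c4 rfl
theorem s4c0 : allBelow (fun k => fs4 (Nat.add (Nat.succ 0) k)) 4181 = true := by decide +kernel
theorem s4u0 : ∀ v, 1 ≤ v → v ≤ 4181 → fs4 v = true := slots_step fs4 0 4181 4181 (slots_zero fs4) s4c0 rfl
theorem s4c1 : allBelow (fun k => fs4 (Nat.add (Nat.succ 4181) k)) 4055 = true := by decide +kernel
theorem s4u1 : ∀ v, 1 ≤ v → v ≤ 8236 → fs4 v = true := slots_step fs4 4181 4055 8236 s4u0 s4c1 rfl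
theorem s4c2 : allBelow (fun k => fs4 (Nat.add (Nat.succ 8236) k)) 3518 = true := by decide +kernel
theorem s4u2 : ∀ v, 1 ≤ v → v ≤ 11754 → fs4 v = true := slots_step fs4 8236 3518 11754 s4u1 s4c2 rfl
theorem s4c3 : allBelow (fun k => fs4 (Nat.add (Nat.succ 11754) k)) 3783 = true := by decide +kernel
theorem s4u3 : ∀ v, 1 ≤ v → v ≤ 15537 → fs4 v = true := slots_step fs4 11754 3783 15537 s4u2 s4c3 rfl
theorem s4c4 : allBelow (fun k => fs4 (Nat.add (Nat.succ 15537) k)) 1092 = true := by decide +kernel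
theorem s4u4 : ∀ v, 1 ≤ v → v ≤ 16629 → fs4 v = true := slots_step fs4 15537 1092 16629 s4u3 s4c4 rfl
theorem s5c0 : allBelow (fun k => fs5 (Nat.add (Nat.succ 0) k)) 4201 = true := by decide +kernel
theorem s5u0 : ∀ v, 1 ≤ v → v ≤ 4201 → fs5 v = true := slots_step fs5 0 4201 4201 (slots_zero fs5) s5c0 rfl
theorem s5c1 : allBelow (fun k => fs5 (Nat.add (Nat.succ 4201) k)) 4064 = true := by decide +kernel
theorem s5u1 : ∀ v, 1 ≤ v → v ≤ 8265 → fs5 v = true := slots_step fs5 4201 4064 8265 s5u0 s5c1 rfl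
theorem s5c2 : allBelow (fun k => fs5 (Nat.add (Nat.succ 8265) k)) 3435 = true := by decide +kernel
theorem s5u2 : ∀ v, 1 ≤ v → v ≤ 11700 → fs5 v = true := slots_step fs5 8265 3435 11700 s5u1 s5c2 rfl
theorem s5c3 : allBelow (fun k => fs5 (Nat.add (Nat.succ 11700) k)) 3762 = true := by decide +kernel
theorem s5u3 : ∀ v, 1 ≤ v → v ≤ 15462 → fs5 v = true := slots_step fs5 11700 3762 15462 s5u2 s5c3 rfl
theorem s5c4 : allBelow (fun k => fs5 (Nat.add (Nat.succ 15462) k)) 1167 = true := by decide +kernel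
theorem s5u4 : ∀ v, 1 ≤ v → v ≤ 16629 → fs5 v = true := slots_step fs5 15462 1167 16629 s5u3 s5c4 rfl
theorem s6c0 : allBelow (fun k => fs6 (Nat.add (Nat.succ 0) k)) 4374 = true := by decide +kernel
theorem s6u0 : ∀ v, 1 ≤ v → v ≤ 4374 → fs6 v = true := slots_step fs6 0 4374 4374 (slots_zero fs6) s6c0 rfl
theorem s6c1 : allBelow (fun k => fs6 (Nat.add (Nat.succ 4374) k)) 4041 = true := by decide +kernel
theorem s6u1 : ∀ v, 1 ≤ v → v ≤ 8415 → fs6 v = true := slots_step fs6 4374 4041 8415 s6u0 s6c1 rfl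
theorem s6c2 : allBelow (fun k => fs6 (Nat.add (Nat.succ 8415) k)) 3552 = true := by decide +kernel
theorem s6u2 : ∀ v, 1 ≤ v → v ≤ 11967 → fs6 v = true := slots_step fs6 8415 3552 11967 s6u1 s6c2 rfl
theorem s6c3 : allBelow (fun k => fs6 (Nat.add (Nat.succ 11967) k)) 3865 = true := by decide +kernel
theorem s6u3 : ∀ v, 1 ≤ v → v ≤ 15832 → fs6 v = true := slots_step fs6 11967 3865 15832 s6u2 s6c3 rfl
theorem s6c4 : allBelow (fun k => fs6 (Nat.add (Nat.succ 15832) k)) 797 = true := by decide +kernel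
theorem s6u4 : ∀ v, 1 ≤ v → v ≤ 16629 → fs6 v = true := slots_step fs6 15832 797 16629 s6u3 s6c4 rfl
theorem s7c0 : allBelow (fun k => fs7 (Nat.add (Nat.succ 0) k)) 4400 = true := by decide +kernel
theorem s7u0 : ∀ v, 1 ≤ v → v ≤ 4400 → fs7 v = true := slots_step fs7 0 4400 4400 (slots_zero fs7) s7c0 rfl
theorem s7c1 : allBelow (fun k => fs7 (Nat.add (Nat.succ 4400) k)) 4084 = true := by decide +kernel
theorem s7u1 : ∀ v, 1 ≤ v → v ≤ 8484 → fs7 v = true := slots_step fs7 4400 4084 8484 s7u0 s7c1 rfl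
theorem s7c2 : allBelow (fun k => fs7 (Nat.add (Nat.succ 8484) k)) 3838 = true := by decide +kernel
theorem s7u2 : ∀ v, 1 ≤ v → v ≤ 12322 → fs7 v = true := slots_step fs7 8484 3838 12322 s7u1 s7c2 rfl
theorem s7c3 : allBelow (fun k => fs7 (Nat.add (Nat.succ 12322) k)) 3560 = true := by decide +kernel
theorem s7u3 : ∀ v, 1 ≤ v → v ≤ 15882 → fs7 v = true := slots_step fs7 12322 3560 15882 s7u2 s7c3 rfl
theorem s7c4 : allBelow (fun k => fs7 (Nat.add (Nat.succ 15882) k)) 747 = true := by decide +kernel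
theorem s7u4 : ∀ v, 1 ≤ v → v ≤ 16629 → fs7 v = true := slots_step fs7 15882 747 16629 s7u3 s7c4 rfl
theorem s8c0 : allBelow (fun k => fs8 (Nat.add (Nat.succ 0) k)) 4691 = true := by decide +kernel
theorem s8u0 : ∀ v, 1 ≤ v → v ≤ 4691 → fs8 v = true := slots_step fs8 0 4691 4691 (slots_zero fs8) s8c0 rfl
theorem s8c1 : allBelow (fun k => fs8 (Nat.add (Nat.succ 4691) k)) 4401 = true := by decide +kernel
theorem s8u1 : ∀ v, 1 ≤ v → v ≤ 9092 → fs8 v = true := slots_step fs8 4691 4401 9092 s8u0 s8c1 rfl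
theorem s8c2 : allBelow (fun k => fs8 (Nat.add (Nat.succ 9092) k)) 3703 = true := by decide +kernel
theorem s8u2 : ∀ v, 1 ≤ v → v ≤ 12795 → fs8 v = true := slots_step fs8 9092 3703 12795 s8u1 s8c2 rfl
theorem s8c3 : allBelow (fun k => fs8 (Nat.add (Nat.succ 12795) k)) 3558 = true := by decide +kernel
theorem s8u3 : ∀ v, 1 ≤ v → v ≤ 16353 → fs8 v = true := slots_step fs8 12795 3558 16353 s8u2 s8c3 rfl
theorem s8c4 : allBelow (fun k => fs8 (Nat.add (Nat.succ 16353) k)) 276 = true := by decide +kernel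
theorem s8u4 : ∀ v, 1 ≤ v → v ≤ 16629 → fs8 v = true := slots_step fs8 16353 276 16629 s8u3 s8c4 rfl
theorem s9c0 : allBelow (fun k => fs9 (Nat.add (Nat.succ 0) k)) 5406 = true := by decide +kernel
theorem s9u0 : ∀ v, 1 ≤ v → v ≤ 5406 → fs9 v = true := slots_step fs9 0 5406 5406 (slots_zero fs9) s9c0 rfl
theorem s9c1 : allBelow (fun k => fs9 (Nat.add (Nat.succ 5406) k)) 9562 = true := by decide +kernel
theorem s9u1 : ∀ v, 1 ≤ v → v ≤ 14968 → fs9 v = true := slots_step fs9 5406 9562 14968 s9u0 s9c1 rfl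
theorem s9c2 : allBelow (fun k => fs9 (Nat.add (Nat.succ 14968) k)) 1661 = true := by decide +kernel
theorem s9u2 : ∀ v, 1 ≤ v → v ≤ 16629 → fs9 v = true := slots_step fs9 14968 1661 16629 s9u1 s9c2 rfl
theorem gz : countBelow gl 0 = 0 := rfl
theorem gk0 : countBelow (fun k => gl (Nat.add 0 k)) 16629 = 14080 := by decide +kernel
theorem gn0 : countBelow gl 16629 = 14080 := countBelow_step gl 0 16629 16629 0 14080 14080 gz gk0 rfl rfl

end Cfsg.Agent.Lib.Helper35.Fi22b
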