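import Cfsg.Agent.Lib.Helper35.Fi22b.PData

set_option Elab.async false

namespace Cfsg.Agent.Lib.Helper35.Fi22b

open Cfsg.Agent.Lib.Helper35

theorem rc0 : allBelow (fun k => fr (Nat.add 0 k)) 105 = true := by decide +kernel
theorem ru0 : ∀ i, i < 105 → fr i = true := below_step fr 0 105 105 (below_zero fr) rc0 rfl
theorem rc1 : allBelow (fun k => fr (Nat.add 105 k)) 105 = true := by decide +kernel
theorem ru1 : ∀ i, i < 210 → fr i = true := below_step fr 105 105 210 ru0 rc1 rfl
theorem rc2 : allBelow (fun k => fr (Nat.add 210 k)) 105 = true := by decide +kernel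
theorem ru2 : ∀ i, i < 315 → fr i = true := below_step fr 210 105 315 ru1 rc2 rfl
theorem rc3 : allBelow (fun k => fr (Nat.add 315 k)) 105 = true := by decide +kernel
theorem ru3 : ∀ i, i < 420 → fr i = true := below_step fr 315 105 420 ru2 rc3 rfl
theorem rc4 : allBelow (fun k => fr (Nat.add 420 k)) 105 = true := by decide +kernel
theorem ru4 : ∀ i, i < 525 → fr i = true := below_step fr 420 105 525 ru3 rc4 rfl
theorem rc5 : allBelow (fun k => fr (Nat.add 525 k)) 105 = true := by decide +kernel
theorem ru5 : ∀ i, i < 630 → fr i = true := below_step fr 525 105 630 ru4 rc5 rfl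
theorem rc6 : allBelow (fun k => fr (Nat.add 630 k)) 105 = true := by decide +kernel
theorem ru6 : ∀ i, i < 735 → fr i = true := below_step fr 630 105 735 ru5 rc6 rfl
theorem rc7 : allBelow (fun k => fr (Nat.add 735 k)) 105 = true := by decide +kernel
theorem ru7 : ∀ i, i < 840 → fr i = true := below_step fr 735 105 840 ru6 rc7 rfl
theorem rc8 : allBelow (fun k => fr (Nat.add 840 k)) 105 = true := by decide +kernel
theorem ru8 : ∀ i, i < 945 → fr i = true := below_step fr 840 105 945 ru7 rc8 rfl
theorem rc9 : allBelow (fun k => fr (Nat.add 945 k)) 105 = true := by decide +kernel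
theorem ru9 : ∀ i, i < 1050 → fr i = true := below_step fr 945 105 1050 ru8 rc9 rfl
theorem rc10 : allBelow (fun k => fr (Nat.add 1050 k)) 105 = true := by decide +kernel
theorem ru10 : ∀ i, i < 1155 → fr i = true := below_step fr 1050 105 1155 ru9 rc10 rfl
theorem rc11 : allBelow (fun k => fr (Nat.add 1155 k)) 105 = true := by decide +kernel
theorem ru11 : ∀ i, i < 1260 → fr i = true := below_step fr 1155 105 1260 ru10 rc11 rfl
theorem rc12 : allBelow (fun k => fr (Nat.add 1260 k)) 105 = true := by decide +kernel
theorem ru12 : ∀ i, i < 1365 → fr i = true := below_step fr 1260 105 1365 ru11 rc12 rfl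
theorem rc13 : allBelow (fun k => fr (Nat.add 1365 k)) 105 = true := by decide +kernel
theorem ru13 : ∀ i, i < 1470 → fr i = true := below_step fr 1365 105 1470 ru12 rc13 rfl
theorem rc14 : allBelow (fun k => fr (Nat.add 1470 k)) 105 = true := by decide +kernel
theorem ru14 : ∀ i, i < 1575 → fr i = true := below_step fr 1470 105 1575 ru13 rc14 rfl
theorem rc15 : allBelow (fun k => fr (Nat.add 1575 k)) 105 = true := by decide +kernel
theorem ru15 : ∀ i, i < 1680 → fr i = true := below_step fr 1575 105 1680 ru14 rc15 rfl
theorem rc16 : allBelow (fun k => fr (Nat.add 1680 k)) 105 = true := by decide +kernel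
theorem ru16 : ∀ i, i < 1785 → fr i = true := below_step fr 1680 105 1785 ru15 rc16 rfl
theorem rc17 : allBelow (fun k => fr (Nat.add 1785 k)) 105 = true := by decide +kernel
theorem ru17 : ∀ i, i < 1890 → fr i = true := below_step fr 1785 105 1890 ru16 rc17 rfl
theorem rc18 : allBelow (fun k => fr (Nat.add 1890 k)) 105 = true := by decide +kernel
theorem ru18 : ∀ i, i < 1995 → fr i = true := below_step fr 1890 105 1995 ru17 rc18 rfl
theorem rc19 : allBelow (fun k => fr (Nat.add 1995 k)) 105 = true := by decide +kernel
theorem ru19 : ∀ i, i < 2100 → fr i = true := below_step fr 1995 105 2100 ru18 rc19 rfl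
theorem rc20 : allBelow (fun k => fr (Nat.add 2100 k)) 105 = true := by decide +kernel
theorem ru20 : ∀ i, i < 2205 → fr i = true := below_step fr 2100 105 2205 ru19 rc20 rfl
theorem rc21 : allBelow (fun k => fr (Nat.add 2205 k)) 105 = true := by decide +kernel
theorem ru21 : ∀ i, i < 2310 → fr i = true := below_step fr 2205 105 2310 ru20 rc21 rfl
theorem rc22 : allBelow (fun k => fr (Nat.add 2310 k)) 105 = true := by decide +kernel
theorem ru22 : ∀ i, i < 2415 → fr i = true := below_step fr 2310 105 2415 ru21 rc22 rfl
theorem rc23 : allBelow (fun k => fr (Nat.add 2415 k)) 105 = true := by decide +kernel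
theorem ru23 : ∀ i, i < 2520 → fr i = true := below_step fr 2415 105 2520 ru22 rc23 rfl
theorem rc24 : allBelow (fun k => fr (Nat.add 2520 k)) 105 = true := by decide +kernel
theorem ru24 : ∀ i, i < 2625 → fr i = true := below_step fr 2520 105 2625 ru23 rc24 rfl
theorem rc25 : allBelow (fun k => fr (Nat.add 2625 k)) 105 = true := by decide +kernel
theorem ru25 : ∀ i, i < 2730 → fr i = true := below_step fr 2625 105 2730 ru24 rc25 rfl
theorem rc26 : allBelow (fun k => fr (Nat.add 2730 k)) 105 = true := by decide +kernel
theorem ru26 : ∀ i, i < 2835 → fr i = true := below_step fr 2730 105 2835 ru25 rc26 rfl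
theorem rc27 : allBelow (fun k => fr (Nat.add 2835 k)) 105 = true := by decide +kernel
theorem ru27 : ∀ i, i < 2940 → fr i = true := below_step fr 2835 105 2940 ru26 rc27 rfl
theorem rc28 : allBelow (fun k => fr (Nat.add 2940 k)) 105 = true := by decide +kernel
theorem ru28 : ∀ i, i < 3045 → fr i = true := below_step fr 2940 105 3045 ru27 rc28 rfl
theorem rc29 : allBelow (fun k => fr (Nat.add 3045 k)) 105 = true := by decide +kernel
theorem ru29 : ∀ i, i < 3150 → fr i = true := below_step fr 3045 105 3150 ru28 rc29 rfl
theorem rc30 : allBelow (fun k => fr (Nat.add 3150 k)) 105 = true := by decide +kernel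
theorem ru30 : ∀ i, i < 3255 → fr i = true := below_step fr 3150 105 3255 ru29 rc30 rfl
theorem rc31 : allBelow (fun k => fr (Nat.add 3255 k)) 105 = true := by decide +kernel
theorem ru31 : ∀ i, i < 3360 → fr i = true := below_step fr 3255 105 3360 ru30 rc31 rfl
theorem rc32 : allBelow (fun k => fr (Nat.add 3360 k)) 105 = true := by decide +kernel
theorem ru32 : ∀ i, i < 3465 → fr i = true := below_step fr 3360 105 3465 ru31 rc32 rfl
theorem rc33 : allBelow (fun k => fr (Nat.add 3465 k)) 105 = true := by decide +kernel
theorem ru33 : ∀ i, i < 3570 → fr i = true := below_step fr 3465 105 3570 ru32 rc33 rfl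
theorem rc34 : allBelow (fun k => fr (Nat.add 3570 k)) 105 = true := by decide +kernel
theorem ru34 : ∀ i, i < 3675 → fr i = true := below_step fr 3570 105 3675 ru33 rc34 rfl
theorem rc35 : allBelow (fun k => fr (Nat.add 3675 k)) 105 = true := by decide +kernel
theorem ru35 : ∀ i, i < 3780 → fr i = true := below_step fr 3675 105 3780 ru34 rc35 rfl
theorem rc36 : allBelow (fun k => fr (Nat.add 3780 k)) 105 = true := by decide +kernel
theorem ru36 : ∀ i, i < 3885 → fr i = true := below_step fr 3780 105 3885 ru35 rc36 rfl
theorem rc37 : allBelow (fun k => fr (Nat.add 3885 k)) 105 = true := by decide +kernel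
theorem ru37 : ∀ i, i < 3990 → fr i = true := below_step fr 3885 105 3990 ru36 rc37 rfl
theorem rc38 : allBelow (fun k => fr (Nat.add 3990 k)) 105 = true := by decide +kernel
theorem ru38 : ∀ i, i < 4095 → fr i = true := below_step fr 3990 105 4095 ru37 rc38 rfl
theorem rc39 : allBelow (fun k => fr (Nat.add 4095 k)) 105 = true := by decide +kernel
theorem ru39 : ∀ i, i < 4200 → fr i = true := below_step fr 4095 105 4200 ru38 rc39 rfl
theorem rc40 : allBelow (fun k => fr (Nat.add 4200 k)) 105 = true := by decide +kernel
theorem ru40 : ∀ i, i < 4305 → fr i = true := below_step fr 4200 105 4305 ru39 rc40 rfl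
theorem rc41 : allBelow (fun k => fr (Nat.add 4305 k)) 105 = true := by decide +kernel
theorem ru41 : ∀ i, i < 4410 → fr i = true := below_step fr 4305 105 4410 ru40 rc41 rfl
theorem rc42 : allBelow (fun k => fr (Nat.add 4410 k)) 105 = true := by decide +kernel
theorem ru42 : ∀ i, i < 4515 → fr i = true := below_step fr 4410 105 4515 ru41 rc42 rfl
theorem rc43 : allBelow (fun k => fr (Nat.add 4515 k)) 105 = true := by decide +kernel
theorem ru43 : ∀ i, i < 4620 → fr i = true := below_step fr 4515 105 4620 ru42 rc43 rfl
theorem rc44 : allBelow (fun k => fr (Nat.add 4620 k)) 105 = true := by decide +kernel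
theorem ru44 : ∀ i, i < 4725 → fr i = true := below_step fr 4620 105 4725 ru43 rc44 rfl
theorem rc45 : allBelow (fun k => fr (Nat.add 4725 k)) 105 = true := by decide +kernel
theorem ru45 : ∀ i, i < 4830 → fr i = true := below_step fr 4725 105 4830 ru44 rc45 rfl
theorem rc46 : allBelow (fun k => fr (Nat.add 4830 k)) 105 = true := by decide +kernel
theorem ru46 : ∀ i, i < 4935 → fr i = true := below_step fr 4830 105 4935 ru45 rc46 rfl
theorem rc47 : allBelow (fun k => fr (Nat.add 4935 k)) 105 = true := by decide +kernel
theorem ru47 : ∀ i, i < 5040 → fr i = true := below_step fr 4935 105 5040 ru46 rc47 rfl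
theorem rc48 : allBelow (fun k => fr (Nat.add 5040 k)) 105 = true := by decide +kernel
theorem ru48 : ∀ i, i < 5145 → fr i = true := below_step fr 5040 105 5145 ru47 rc48 rfl
theorem rc49 : allBelow (fun k => fr (Nat.add 5145 k)) 105 = true := by decide +kernel
theorem ru49 : ∀ i, i < 5250 → fr i = true := below_step fr 5145 105 5250 ru48 rc49 rfl
theorem rc50 : allBelow (fun k => fr (Nat.add 5250 k)) 105 = true := by decide +kernel
theorem ru50 : ∀ i, i < 5355 → fr i = true := below_step fr 5250 105 5355 ru49 rc50 rfl
theorem rc51 : allBelow (fun k => fr (Nat.add 5355 k)) 105 = true := by decide +kernel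
theorem ru51 : ∀ i, i < 5460 → fr i = true := below_step fr 5355 105 5460 ru50 rc51 rfl
theorem rc52 : allBelow (fun k => fr (Nat.add 5460 k)) 105 = true := by decide +kernel
theorem ru52 : ∀ i, i < 5565 → fr i = true := below_step fr 5460 105 5565 ru51 rc52 rfl
theorem rc53 : allBelow (fun k => fr (Nat.add 5565 k)) 105 = true := by decide +kernel
theorem ru53 : ∀ i, i < 5670 → fr i = true := below_step fr 5565 105 5670 ru52 rc53 rfl
theorem rc54 : allBelow (fun k => fr (Nat.add 5670 k)) 105 = true := by decide +kernel
theorem ru54 : ∀ i, i < 5775 → fr i = true := below_step fr 5670 105 5775 ru53 rc54 rfl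
theorem rc55 : allBelow (fun k => fr (Nat.add 5775 k)) 105 = true := by decide +kernel
theorem ru55 : ∀ i, i < 5880 → fr i = true := below_step fr 5775 105 5880 ru54 rc55 rfl
theorem rc56 : allBelow (fun k => fr (Nat.add 5880 k)) 105 = true := by decide +kernel
theorem ru56 : ∀ i, i < 5985 → fr i = true := below_step fr 5880 105 5985 ru55 rc56 rfl
theorem rc57 : allBelow (fun k => fr (Nat.add 5985 k)) 105 = true := by decide +kernel
theorem ru57 : ∀ i, i < 6090 → fr i = true := below_step fr 5985 105 6090 ru56 rc57 rfl
theorem rc58 : allBelow (fun k => fr (Nat.add 6090 k)) 105 = true := by decide +kernel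
theorem ru58 : ∀ i, i < 6195 → fr i = true := below_step fr 6090 105 6195 ru57 rc58 rfl
theorem rc59 : allBelow (fun k => fr (Nat.add 6195 k)) 105 = true := by decide +kernel
theorem ru59 : ∀ i, i < 6300 → fr i = true := below_step fr 6195 105 6300 ru58 rc59 rfl
theorem rc60 : allBelow (fun k => fr (Nat.add 6300 k)) 105 = true := by decide +kernel
theorem ru60 : ∀ i, i < 6405 → fr i = true := below_step fr 6300 105 6405 ru59 rc60 rfl
theorem rc61 : allBelow (fun k => fr (Nat.add 6405 k)) 105 = true := by decide +kernel
theorem ru61 : ∀ i, i < 6510 → fr i = true := below_step fr 6405 105 6510 ru60 rc61 rfl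
theorem rc62 : allBelow (fun k => fr (Nat.add 6510 k)) 105 = true := by decide +kernel
theorem ru62 : ∀ i, i < 6615 → fr i = true := below_step fr 6510 105 6615 ru61 rc62 rfl
theorem rc63 : allBelow (fun k => fr (Nat.add 6615 k)) 105 = true := by decide +kernel
theorem ru63 : ∀ i, i < 6720 → fr i = true := below_step fr 6615 105 6720 ru62 rc63 rfl
theorem rc64 : allBelow (fun k => fr (Nat.add 6720 k)) 105 = true := by decide +kernel
theorem ru64 : ∀ i, i < 6825 → fr i = true := below_step fr 6720 105 6825 ru63 rc64 rfl
theorem rc65 : allBelow (fun k => fr (Nat.add 6825 k)) 105 = true := by decide +kernel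
theorem ru65 : ∀ i, i < 6930 → fr i = true := below_step fr 6825 105 6930 ru64 rc65 rfl
theorem rc66 : allBelow (fun k => fr (Nat.add 6930 k)) 105 = true := by decide +kernel
theorem ru66 : ∀ i, i < 7035 → fr i = true := below_step fr 6930 105 7035 ru65 rc66 rfl
theorem rc67 : allBelow (fun k => fr (Nat.add 7035 k)) 105 = true := by decide +kernel
theorem ru67 : ∀ i, i < 7140 → fr i = true := below_step fr 7035 105 7140 ru66 rc67 rfl
theorem rc68 : allBelow (fun k => fr (Nat.add 7140 k)) 105 = true := by decide +kernel
theorem ru68 : ∀ i, i < 7245 → fr i = true := below_step fr 7140 105 7245 ru67 rc68 rfl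
theorem rc69 : allBelow (fun k => fr (Nat.add 7245 k)) 105 = true := by decide +kernel
theorem ru69 : ∀ i, i < 7350 → fr i = true := below_step fr 7245 105 7350 ru68 rc69 rfl
theorem rc70 : allBelow (fun k => fr (Nat.add 7350 k)) 105 = true := by decide +kernel
theorem ru70 : ∀ i, i < 7455 → fr i = true := below_step fr 7350 105 7455 ru69 rc70 rfl
theorem rc71 : allBelow (fun k => fr (Nat.add 7455 k)) 105 = true := by decide +kernel
theorem ru71 : ∀ i, i < 7560 → fr i = true := below_step fr 7455 105 7560 ru70 rc71 rfl
theorem rc72 : allBelow (fun k => fr (Nat.add 7560 k)) 105 = true := by decide +kernel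
theorem ru72 : ∀ i, i < 7665 → fr i = true := below_step fr 7560 105 7665 ru71 rc72 rfl
theorem rc73 : allBelow (fun k => fr (Nat.add 7665 k)) 105 = true := by decide +kernel
theorem ru73 : ∀ i, i < 7770 → fr i = true := below_step fr 7665 105 7770 ru72 rc73 rfl
theorem rc74 : allBelow (fun k => fr (Nat.add 7770 k)) 105 = true := by decide +kernel
theorem ru74 : ∀ i, i < 7875 → fr i = true := below_step fr 7770 105 7875 ru73 rc74 rfl
theorem rc75 : allBelow (fun k => fr (Nat.add 7875 k)) 105 = true := by decide +kernel
theorem ru75 : ∀ i, i < 7980 → fr i = true := below_step fr 7875 105 7980 ru74 rc75 rfl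
theorem rc76 : allBelow (fun k => fr (Nat.add 7980 k)) 105 = true := by decide +kernel
theorem ru76 : ∀ i, i < 8085 → fr i = true := below_step fr 7980 105 8085 ru75 rc76 rfl
theorem rc77 : allBelow (fun k => fr (Nat.add 8085 k)) 105 = true := by decide +kernel
theorem ru77 : ∀ i, i < 8190 → fr i = true := below_step fr 8085 105 8190 ru76 rc77 rfl
theorem rc78 : allBelow (fun k => fr (Nat.add 8190 k)) 105 = true := by decide +kernel
theorem ru78 : ∀ i, i < 8295 → fr i = true := below_step fr 8190 105 8295 ru77 rc78 rfl
theorem rc79 : allBelow (fun k => fr (Nat.add 8295 k)) 105 = true := by decide +kernel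
theorem ru79 : ∀ i, i < 8400 → fr i = true := below_step fr 8295 105 8400 ru78 rc79 rfl
theorem rc80 : allBelow (fun k => fr (Nat.add 8400 k)) 105 = true := by decide +kernel
theorem ru80 : ∀ i, i < 8505 → fr i = true := below_step fr 8400 105 8505 ru79 rc80 rfl
theorem rc81 : allBelow (fun k => fr (Nat.add 8505 k)) 105 = true := by decide +kernel
theorem ru81 : ∀ i, i < 8610 → fr i = true := below_step fr 8505 105 8610 ru80 rc81 rfl
theorem rc82 : allBelow (fun k => fr (Nat.add 8610 k)) 105 = true := by decide +kernel
theorem ru82 : ∀ i, i < 8715 → fr i = true := below_step fr 8610 105 8715 ru81 rc82 rfl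
theorem rc83 : allBelow (fun k => fr (Nat.add 8715 k)) 105 = true := by decide +kernel
theorem ru83 : ∀ i, i < 8820 → fr i = true := below_step fr 8715 105 8820 ru82 rc83 rfl
theorem rc84 : allBelow (fun k => fr (Nat.add 8820 k)) 105 = true := by decide +kernel
theorem ru84 : ∀ i, i < 8925 → fr i = true := below_step fr 8820 105 8925 ru83 rc84 rfl
theorem rc85 : allBelow (fun k => fr (Nat.add 8925 k)) 105 = true := by decide +kernel
theorem ru85 : ∀ i, i < 9030 → fr i = true := below_step fr 8925 105 9030 ru84 rc85 rfl
theorem rc86 : allBelow (fun k => fr (Nat.add 9030 k)) 105 = true := by decide +kernel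
theorem ru86 : ∀ i, i < 9135 → fr i = true := below_step fr 9030 105 9135 ru85 rc86 rfl
theorem rc87 : allBelow (fun k => fr (Nat.add 9135 k)) 105 = true := by decide +kernel
theorem ru87 : ∀ i, i < 9240 → fr i = true := below_step fr 9135 105 9240 ru86 rc87 rfl
theorem rc88 : allBelow (fun k => fr (Nat.add 9240 k)) 105 = true := by decide +kernel
theorem ru88 : ∀ i, i < 9345 → fr i = true := below_step fr 9240 105 9345 ru87 rc88 rfl
theorem rc89 : allBelow (fun k => fr (Nat.add 9345 k)) 105 = true := by decide +kernel
theorem ru89 : ∀ i, i < 9450 → fr i = true := below_step fr 9345 105 9450 ru88 rc89 rfl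
theorem rc90 : allBelow (fun k => fr (Nat.add 9450 k)) 105 = true := by decide +kernel
theorem ru90 : ∀ i, i < 9555 → fr i = true := below_step fr 9450 105 9555 ru89 rc90 rfl
theorem rc91 : allBelow (fun k => fr (Nat.add 9555 k)) 105 = true := by decide +kernel
theorem ru91 : ∀ i, i < 9660 → fr i = true := below_step fr 9555 105 9660 ru90 rc91 rfl
theorem rc92 : allBelow (fun k => fr (Nat.add 9660 k)) 105 = true := by decide +kernel
theorem ru92 : ∀ i, i < 9765 → fr i = true := below_step fr 9660 105 9765 ru91 rc92 rfl
theorem rc93 : allBelow (fun k => fr (Nat.add 9765 k)) 105 = true := by decide +kernel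
theorem ru93 : ∀ i, i < 9870 → fr i = true := below_step fr 9765 105 9870 ru92 rc93 rfl
theorem rc94 : allBelow (fun k => fr (Nat.add 9870 k)) 105 = true := by decide +kernel
theorem ru94 : ∀ i, i < 9975 → fr i = true := below_step fr 9870 105 9975 ru93 rc94 rfl
theorem rc95 : allBelow (fun k => fr (Nat.add 9975 k)) 105 = true := by decide +kernel
theorem ru95 : ∀ i, i < 10080 → fr i = true := below_step fr 9975 105 10080 ru94 rc95 rfl
theorem rc96 : allBelow (fun k => fr (Nat.add 10080 k)) 105 = true := by decide +kernel
theorem ru96 : ∀ i, i < 10185 → fr i = true := below_step fr 10080 105 10185 ru95 rc96 rfl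
theorem rc97 : allBelow (fun k => fr (Nat.add 10185 k)) 105 = true := by decide +kernel
theorem ru97 : ∀ i, i < 10290 → fr i = true := below_step fr 10185 105 10290 ru96 rc97 rfl
theorem rc98 : allBelow (fun k => fr (Nat.add 10290 k)) 105 = true := by decide +kernel
theorem ru98 : ∀ i, i < 10395 → fr i = true := below_step fr 10290 105 10395 ru97 rc98 rfl
theorem rc99 : allBelow (fun k => fr (Nat.add 10395 k)) 105 = true := by decide +kernel
theorem ru99 : ∀ i, i < 10500 → fr i = true := below_step fr 10395 105 10500 ru98 rc99 rfl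
theorem rc100 : allBelow (fun k => fr (Nat.add 10500 k)) 105 = true := by decide +kernel
theorem ru100 : ∀ i, i < 10605 → fr i = true := below_step fr 10500 105 10605 ru99 rc100 rfl
theorem rc101 : allBelow (fun k => fr (Nat.add 10605 k)) 105 = true := by decide +kernel
theorem ru101 : ∀ i, i < 10710 → fr i = true := below_step fr 10605 105 10710 ru100 rc101 rfl

end Cfsg.Agent.Lib.Helper35.Fi22b
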