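import Cfsg.Agent.Lib.Helper35.Fi22b.PChk0

set_option Elab.async false

namespace Cfsg.Agent.Lib.Helper35.Fi22b

open Cfsg.Agent.Lib.Helper35

theorem rc102 : allBelow (fun k => fr (Nat.add 10710 k)) 105 = true := by decide +kernel
theorem ru102 : ∀ i, i < 10815 → fr i = true := below_step fr 10710 105 10815 ru101 rc102 rfl
theorem rc103 : allBelow (fun k => fr (Nat.add 10815 k)) 105 = true := by decide +kernel
theorem ru103 : ∀ i, i < 10920 → fr i = true := below_step fr 10815 105 10920 ru102 rc103 rfl
theorem rc104 : allBelow (fun k => fr (Nat.add 10920 k)) 105 = true := by decide +kernel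
theorem ru104 : ∀ i, i < 11025 → fr i = true := below_step fr 10920 105 11025 ru103 rc104 rfl
theorem rc105 : allBelow (fun k => fr (Nat.add 11025 k)) 105 = true := by decide +kernel
theorem ru105 : ∀ i, i < 11130 → fr i = true := below_step fr 11025 105 11130 ru104 rc105 rfl
theorem rc106 : allBelow (fun k => fr (Nat.add 11130 k)) 105 = true := by decide +kernel
theorem ru106 : ∀ i, i < 11235 → fr i = true := below_step fr 11130 105 11235 ru105 rc106 rfl
theorem rc107 : allBelow (fun k => fr (Nat.add 11235 k)) 105 = true := by decide +kernel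
theorem ru107 : ∀ i, i < 11340 → fr i = true := below_step fr 11235 105 11340 ru106 rc107 rfl
theorem rc108 : allBelow (fun k => fr (Nat.add 11340 k)) 105 = true := by decide +kernel
theorem ru108 : ∀ i, i < 11445 → fr i = true := below_step fr 11340 105 11445 ru107 rc108 rfl
theorem rc109 : allBelow (fun k => fr (Nat.add 11445 k)) 105 = true := by decide +kernel
theorem ru109 : ∀ i, i < 11550 → fr i = true := below_step fr 11445 105 11550 ru108 rc109 rfl
theorem rc110 : allBelow (fun k => fr (Nat.add 11550 k)) 105 = true := by decide +kernel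
theorem ru110 : ∀ i, i < 11655 → fr i = true := below_step fr 11550 105 11655 ru109 rc110 rfl
theorem rc111 : allBelow (fun k => fr (Nat.add 11655 k)) 105 = true := by decide +kernel
theorem ru111 : ∀ i, i < 11760 → fr i = true := below_step fr 11655 105 11760 ru110 rc111 rfl
theorem rc112 : allBelow (fun k => fr (Nat.add 11760 k)) 105 = true := by decide +kernel
theorem ru112 : ∀ i, i < 11865 → fr i = true := below_step fr 11760 105 11865 ru111 rc112 rfl
theorem rc113 : allBelow (fun k => fr (Nat.add 11865 k)) 105 = true := by decide +kernel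
theorem ru113 : ∀ i, i < 11970 → fr i = true := below_step fr 11865 105 11970 ru112 rc113 rfl
theorem rc114 : allBelow (fun k => fr (Nat.add 11970 k)) 105 = true := by decide +kernel
theorem ru114 : ∀ i, i < 12075 → fr i = true := below_step fr 11970 105 12075 ru113 rc114 rfl
theorem rc115 : allBelow (fun k => fr (Nat.add 12075 k)) 105 = true := by decide +kernel
theorem ru115 : ∀ i, i < 12180 → fr i = true := below_step fr 12075 105 12180 ru114 rc115 rfl
theorem rc116 : allBelow (fun k => fr (Nat.add 12180 k)) 105 = true := by decide +kernel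
theorem ru116 : ∀ i, i < 12285 → fr i = true := below_step fr 12180 105 12285 ru115 rc116 rfl
theorem rc117 : allBelow (fun k => fr (Nat.add 12285 k)) 105 = true := by decide +kernel
theorem ru117 : ∀ i, i < 12390 → fr i = true := below_step fr 12285 105 12390 ru116 rc117 rfl
theorem rc118 : allBelow (fun k => fr (Nat.add 12390 k)) 105 = true := by decide +kernel
theorem ru118 : ∀ i, i < 12495 → fr i = true := below_step fr 12390 105 12495 ru117 rc118 rfl
theorem rc119 : allBelow (fun k => fr (Nat.add 12495 k)) 105 = true := by decide +kernel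
theorem ru119 : ∀ i, i < 12600 → fr i = true := below_step fr 12495 105 12600 ru118 rc119 rfl
theorem rc120 : allBelow (fun k => fr (Nat.add 12600 k)) 105 = true := by decide +kernel
theorem ru120 : ∀ i, i < 12705 → fr i = true := below_step fr 12600 105 12705 ru119 rc120 rfl
theorem rc121 : allBelow (fun k => fr (Nat.add 12705 k)) 105 = true := by decide +kernel
theorem ru121 : ∀ i, i < 12810 → fr i = true := below_step fr 12705 105 12810 ru120 rc121 rfl
theorem rc122 : allBelow (fun k => fr (Nat.add 12810 k)) 105 = true := by decide +kernel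
theorem ru122 : ∀ i, i < 12915 → fr i = true := below_step fr 12810 105 12915 ru121 rc122 rfl
theorem rc123 : allBelow (fun k => fr (Nat.add 12915 k)) 105 = true := by decide +kernel
theorem ru123 : ∀ i, i < 13020 → fr i = true := below_step fr 12915 105 13020 ru122 rc123 rfl
theorem rc124 : allBelow (fun k => fr (Nat.add 13020 k)) 105 = true := by decide +kernel
theorem ru124 : ∀ i, i < 13125 → fr i = true := below_step fr 13020 105 13125 ru123 rc124 rfl
theorem rc125 : allBelow (fun k => fr (Nat.add 13125 k)) 105 = true := by decide +kernel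
theorem ru125 : ∀ i, i < 13230 → fr i = true := below_step fr 13125 105 13230 ru124 rc125 rfl
theorem rc126 : allBelow (fun k => fr (Nat.add 13230 k)) 105 = true := by decide +kernel
theorem ru126 : ∀ i, i < 13335 → fr i = true := below_step fr 13230 105 13335 ru125 rc126 rfl
theorem rc127 : allBelow (fun k => fr (Nat.add 13335 k)) 105 = true := by decide +kernel
theorem ru127 : ∀ i, i < 13440 → fr i = true := below_step fr 13335 105 13440 ru126 rc127 rfl
theorem rc128 : allBelow (fun k => fr (Nat.add 13440 k)) 105 = true := by decide +kernel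
theorem ru128 : ∀ i, i < 13545 → fr i = true := below_step fr 13440 105 13545 ru127 rc128 rfl
theorem rc129 : allBelow (fun k => fr (Nat.add 13545 k)) 105 = true := by decide +kernel
theorem ru129 : ∀ i, i < 13650 → fr i = true := below_step fr 13545 105 13650 ru128 rc129 rfl
theorem rc130 : allBelow (fun k => fr (Nat.add 13650 k)) 105 = true := by decide +kernel
theorem ru130 : ∀ i, i < 13755 → fr i = true := below_step fr 13650 105 13755 ru129 rc130 rfl
theorem rc131 : allBelow (fun k => fr (Nat.add 13755 k)) 105 = true := by decide +kernel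
theorem ru131 : ∀ i, i < 13860 → fr i = true := below_step fr 13755 105 13860 ru130 rc131 rfl
theorem rc132 : allBelow (fun k => fr (Nat.add 13860 k)) 105 = true := by decide +kernel
theorem ru132 : ∀ i, i < 13965 → fr i = true := below_step fr 13860 105 13965 ru131 rc132 rfl
theorem rc133 : allBelow (fun k => fr (Nat.add 13965 k)) 105 = true := by decide +kernel
theorem ru133 : ∀ i, i < 14070 → fr i = true := below_step fr 13965 105 14070 ru132 rc133 rfl
theorem rc134 : allBelow (fun k => fr (Nat.add 14070 k)) 10 = true := by decide +kernel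
theorem ru134 : ∀ i, i < 14080 → fr i = true := below_step fr 14070 10 14080 ru133 rc134 rfl
theorem c0c0 : allBelow (fun k => fc0 (Nat.add 0 k)) 14080 = true := by decide +kernel
theorem c0u0 : ∀ i, i < 14080 → fc0 i = true := below_step fc0 0 14080 14080 (below_zero fc0) c0c0 rfl
theorem c1c0 : allBelow (fun k => fc1 (Nat.add 0 k)) 14080 = true := by decide +kernel
theorem c1u0 : ∀ i, i < 14080 → fc1 i = true := below_step fc1 0 14080 14080 (below_zero fc1) c1c0 rfl
theorem c2c0 : allBelow (fun k => fc2 (Nat.add 0 k)) 14080 = true := by decide +kernel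
theorem c2u0 : ∀ i, i < 14080 → fc2 i = true := below_step fc2 0 14080 14080 (below_zero fc2) c2c0 rfl
theorem c3c0 : allBelow (fun k => fc3 (Nat.add 0 k)) 14080 = true := by decide +kernel
theorem c3u0 : ∀ i, i < 14080 → fc3 i = true := below_step fc3 0 14080 14080 (below_zero fc3) c3c0 rfl
theorem c4c0 : allBelow (fun k => fc4 (Nat.add 0 k)) 14080 = true := by decide +kernel
theorem c4u0 : ∀ i, i < 14080 → fc4 i = true := below_step fc4 0 14080 14080 (below_zero fc4) c4c0 rfl
theorem c5c0 : allBelow (fun k => fc5 (Nat.add 0 k)) 14080 = true := by decide +kernel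
theorem c5u0 : ∀ i, i < 14080 → fc5 i = true := below_step fc5 0 14080 14080 (below_zero fc5) c5c0 rfl
theorem c6c0 : allBelow (fun k => fc6 (Nat.add 0 k)) 14080 = true := by decide +kernel
theorem c6u0 : ∀ i, i < 14080 → fc6 i = true := below_step fc6 0 14080 14080 (below_zero fc6) c6c0 rfl
theorem c7c0 : allBelow (fun k => fc7 (Nat.add 0 k)) 14080 = true := by decide +kernel
theorem c7u0 : ∀ i, i < 14080 → fc7 i = true := below_step fc7 0 14080 14080 (below_zero fc7) c7c0 rfl
theorem c8c0 : allBelow (fun k => fc8 (Nat.add 0 k)) 14080 = true := by decide +kernel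
theorem c8u0 : ∀ i, i < 14080 → fc8 i = true := below_step fc8 0 14080 14080 (below_zero fc8) c8c0 rfl
theorem tc0 : allBelow (fun k => ft (Nat.add (Nat.succ 0) k)) 13206 = true := by decide +kernel
theorem tu0 : ∀ v, 1 ≤ v → v ≤ 13206 → ft v = true := slots_step ft 0 13206 13206 (slots_zero ft) tc0 rfl
theorem tc1 : allBelow (fun k => ft (Nat.add (Nat.succ 13206) k)) 873 = true := by decide +kernel
theorem tu1 : ∀ v, 1 ≤ v → v ≤ 14079 → ft v = true := slots_step ft 13206 873 14079 tu0 tc1 rfl

end Cfsg.Agent.Lib.Helper35.Fi22b
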